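import Mathlib
import Cfsg.Agent.Lib.ZJ.StableFree
import Cfsg.Agent.Lib.OddLocal.CoprimeFix
import Cfsg.Agent.Lib.Cores.Basic

/-!
# `p`-stable subgroups with self-centralizing `p`-core, seen inside an ambient group

Owner: helper69.
-/

set_option autoImplicit false

namespace Cfsg.Agent.Lib.PrimPair

open Subgroup
open scoped commutatorElement

universe u

variable {G : Type u} [Group G] [Finite G] {p : ℕ} [hp : Fact p.Prime]

/-- `M` has no `SL(2,p)` section, and `O` is its `p`-core with `C_M(O) ≤ O`. -/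
structure Good (p : ℕ) (M O : Subgroup G) : Prop where
  noSL : PLocal.NoSLTwo p ↥M
  le : O ≤ M
  norm : M ≤ normalizer (O : Set G)
  isP : IsPGroup p O
  cent : M ⊓ centralizer (O : Set G) ≤ O
  max : ∀ N : Subgroup G, N ≤ M → M ≤ normalizer (N : Set G) → IsPGroup p N → N ≤ O

/-- A `p`-stable group with self-centralizing `p`-core. -/
theorem good_of_noSLTwo (M : Subgroup G) (hM : PLocal.NoSLTwo p ↥M)
    (hc : centralizer (Cfsg.pCore p ↥M : Set ↥M) ≤ Cfsg.pCore p ↥M) :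
    Good p M ((Cfsg.pCore p ↥M).map M.subtype) where
  noSL := hM
  le := map_subtype_le _
  norm := by
    intro g hg
    rw [mem_normalizer_iff]
    intro x
    constructor
    · rintro ⟨y, hy, rfl⟩
      exact ⟨⟨g, hg⟩ * y * ⟨g, hg⟩⁻¹, Normal.conj_mem inferInstance y hy _, rfl⟩
    · rintro ⟨y, hy, hyx⟩
      refine ⟨⟨g, hg⟩⁻¹ * y * ⟨g, hg⟩⁻¹⁻¹, Normal.conj_mem inferInstance y hy _, ?_⟩
      have : (y : G) = g * x * g⁻¹ := hyx
      simp [this, mul_assoc]
  isP := (Cores.pCore_isPGroup p).map _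
  cent := by
    rintro x ⟨hxM, hxC⟩
    exact ⟨⟨x, hxM⟩, hc (mem_centralizer_iff.2 fun y hy =>
      Subtype.ext (mem_centralizer_iff.1 hxC y ⟨y, hy, rfl⟩)), rfl⟩
  max := fun N hNM hMN hN => by
    haveI := normal_subgroupOf_iff_le_normalizer hNM |>.2 hMN
    rw [← map_subgroupOf_eq_of_le hNM]
    exact map_mono (Cores.le_pCore hN.comap_subtype)

/-- The subgroup above the centralizer of a normal `p`-subgroup given by `p`-stability. -/
theorem exists_quad_kernel (hp2 : p ≠ 2) {M O : Subgroup G} (h : Good p M O) {P : Subgroup G}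
    (hPM : P ≤ M) (hMP : M ≤ normalizer (P : Set G)) (hP : IsPGroup p P) :
    ∃ K : Subgroup G, K ≤ M ∧ M ≤ normalizer (K : Set G) ∧
      (∀ m ∈ K, ∃ j : ℕ, m ^ (p ^ j) ∈ centralizer (P : Set G)) ∧
      ∀ A : Subgroup G, IsMulCommutative A → P ≤ normalizer (A : Set G) →
        ∀ a ∈ A, a ∈ M → a ∈ K := by
  haveI := normal_subgroupOf_iff_le_normalizer hPM |>.2 hMP
  obtain ⟨D, hDn, -, hDj, hDa⟩ := ZJ.exists_stable_sup
    (ZJ.isPStableOn_of_noSLTwo hp2 h.noSL (P.subgroupOf M) hP.comap_subtype)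
  haveI := hDn
  refine ⟨D.map M.subtype, map_subtype_le _, ?_, ?_, ?_⟩
  · calc M = (normalizer (D : Set ↥M)).map M.subtype := by
          rw [normalizer_eq_top, ← MonoidHom.range_eq_map, range_subtype]
      _ ≤ _ := le_normalizer_map _
  · rintro _ ⟨m, hm, rfl⟩
    obtain ⟨j, hj⟩ := hDj m hm
    refine ⟨j, mem_centralizer_iff.2 fun y hy => ?_⟩
    have := congrArg Subtype.val (mem_centralizer_iff.1 hj ⟨y, hPM hy⟩ hy)
    simpa using this
  · intro A hA hPA a ha haM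
    refine ⟨⟨a, haM⟩, hDa _ ?_, rfl⟩
    refine map_injective M.subtype_injective ?_
    rw [map_commutator, map_commutator, map_subgroupOf_eq_of_le hPM, MonoidHom.map_zpowers,
      Subgroup.map_bot]
    exact ZJ.commutator_quadratic hPA
      (fun x hx y hy => congrArg Subtype.val (hA.is_comm.comm ⟨x, hx⟩ ⟨y, hy⟩)) ha

/-- `C_M(P)` is a `p`-group if `P` contains its centralizer in `O`. -/
theorem centralizer_isPGroup {M O : Subgroup G} (h : Good p M O) {P : Subgroup G}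
    (hMP : M ≤ normalizer (P : Set G)) (hCP : O ⊓ centralizer (P : Set G) ≤ P) :
    IsPGroup p ↥(M ⊓ centralizer (P : Set G)) := by
  rintro ⟨x, hxM, hxC⟩
  obtain ⟨j, r, hr, hjr⟩ :=
    Nat.exists_eq_pow_mul_and_not_dvd (orderOf_pos x).ne' p hp.out.ne_one
  refine ⟨j, Subtype.ext ?_⟩
  rw [SubmonoidClass.coe_pow]
  change x ^ p ^ j = 1
  obtain ⟨c, hc⟩ : ∃ c, c = x ^ p ^ j := ⟨_, rfl⟩
  rw [← hc]
  have hcM : c ∈ M := hc ▸ pow_mem hxM _
  have hcC : c ∈ centralizer (P : Set G) := hc ▸ pow_mem hxC _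
  have hcop : (orderOf c).Coprime p := by
    have h1 : orderOf c ∣ r := orderOf_dvd_of_pow_eq_one (by
      rw [hc, ← pow_mul, ← hjr, pow_orderOf_eq_one])
    exact (hp.out.coprime_iff_not_dvd.mpr hr).symm.coprime_dvd_left h1
  have hpk : ∀ k ∈ O, (orderOf c).Coprime (orderOf k) := fun k hk => by
    obtain ⟨m, hm⟩ := IsPGroup.iff_orderOf.mp h.isP ⟨k, hk⟩
    rw [Subgroup.orderOf_mk] at hm
    rw [hm]
    exact hcop.pow_right m
  have hcO : c ∈ centralizer (O : Set G) := mem_centralizer_iff.2 fun u hu => by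
    have hk : c * u * c⁻¹ * u⁻¹ ∈ O :=
      mul_mem ((mem_normalizer_iff.1 (h.norm hcM) u).1 hu) (inv_mem hu)
    exact (OddLocal.CoprimeFix.comm_of_fixed (k := c * u * c⁻¹ * u⁻¹) (by group)
      (mem_centralizer_iff.1 hcC _ (hCP ⟨hk,
        OddLocal.CoprimeFix.comm_mem_centralizer hcC (hMP (h.le hu))⟩)).symm
      (hpk _ hk)).symm
  have := hpk c (h.cent ⟨hcM, hcO⟩)
  rwa [Nat.coprime_self, orderOf_eq_one_iff] at this

/-- An abelian subgroup normalised by such a `P` meets `M` in `O`. -/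
theorem mem_core_of_quad (hp2 : p ≠ 2) {M O : Subgroup G} (h : Good p M O) {P : Subgroup G}
    (hPO : P ≤ O) (hMP : M ≤ normalizer (P : Set G)) (hCP : O ⊓ centralizer (P : Set G) ≤ P)
    {A : Subgroup G} (hA : IsMulCommutative A) (hPA : P ≤ normalizer (A : Set G)) {a : G}
    (ha : a ∈ A) (haM : a ∈ M) : a ∈ O := by
  obtain ⟨K, hKM, hMK, hKj, hKa⟩ :=
    exists_quad_kernel hp2 h (hPO.trans h.le) hMP (h.isP.to_le hPO)
  refine h.max K hKM hMK ?_ (hKa A hA hPA a ha haM)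
  rintro ⟨m, hm⟩
  obtain ⟨j, hj⟩ := hKj m hm
  obtain ⟨i, hi⟩ := centralizer_isPGroup h hMP hCP ⟨_, pow_mem (hKM hm) _, hj⟩
  refine ⟨j + i, Subtype.ext ?_⟩
  rw [SubmonoidClass.coe_pow, pow_add, pow_mul]
  exact congrArg Subtype.val hi

/-- A group inducing a `p`-group on a nontrivial `p`-subgroup fixes a nontrivial element of it. -/
theorem inf_centralizer_ne_bot {V K : Subgroup G} (hV : IsPGroup p V) (hV0 : V ≠ ⊥)
    (hKV : K ≤ normalizer (V : Set G))
    (hK : ∀ m ∈ K, ∃ j : ℕ, m ^ (p ^ j) ∈ centralizer (V : Set G)) :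
    V ⊓ centralizer (K : Set G) ≠ ⊥ := by
  obtain ⟨φ, hφ⟩ : ∃ φ : ↥K →* MulAut V, φ = V.normalizerMonoidHom.comp (inclusion hKV) := ⟨_, rfl⟩
  have hker : ∀ m : K, (m : G) ∈ centralizer (V : Set G) → φ m = 1 := fun m hm => by
    rw [hφ, MonoidHom.comp_apply, ← MonoidHom.mem_ker, normalizerMonoidHom_ker]
    exact hm
  have hR : IsPGroup p φ.range := by
    rintro ⟨_, m, rfl⟩
    obtain ⟨j, hj⟩ := hK m m.2
    refine ⟨j, Subtype.ext ?_⟩
    rw [SubmonoidClass.coe_pow, ← map_pow]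
    exact hker _ hj
  haveI : Nontrivial V := (nontrivial_iff_ne_bot V).2 hV0
  have hdvd : p ∣ Nat.card V := by
    obtain ⟨n, hn0, hn⟩ := hV.nontrivial_iff_card.mp inferInstance
    exact hn.symm ▸ dvd_pow_self _ (ne_of_gt hn0)
  obtain ⟨b, hb, hb1⟩ := hR.exists_fixed_point_of_prime_dvd_card_of_fixed_point V hdvd
    (a := (1 : V)) (fun f => map_one (f : MulAut V))
  intro hbot
  refine hb1 (Subtype.ext ?_)
  have : (b : G) ∈ V ⊓ centralizer (K : Set G) := by
    refine ⟨b.2, mem_centralizer_iff.2 fun m hm => ?_⟩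
    have h1 : φ ⟨m, hm⟩ b = b := hb ⟨φ ⟨m, hm⟩, ⟨_, rfl⟩⟩
    rw [hφ] at h1
    have h2 : m * b * m⁻¹ = b := congrArg Subtype.val h1
    exact mul_inv_eq_iff_eq_mul.1 h2
  rw [hbot, mem_bot] at this
  rw [this]
  rfl

/-- A minimal `M`-invariant subgroup of `O` is abelian and centralized by quadratic elements. -/
theorem exists_reduced (hp2 : p ≠ 2) {M O : Subgroup G} (h : Good p M O) (hO : O ≠ ⊥) :
    ∃ V : Subgroup G, V ≠ ⊥ ∧ V ≤ O ∧ M ≤ normalizer (V : Set G) ∧ IsMulCommutative V ∧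
      ∀ A : Subgroup G, IsMulCommutative A → V ≤ normalizer (A : Set G) → A ≤ M →
        A ≤ centralizer (V : Set G) := by
  obtain ⟨V, ⟨hV0, hVO, hMV⟩, hmin⟩ :=
    (Set.toFinite {V : Subgroup G | V ≠ ⊥ ∧ V ≤ O ∧ M ≤ normalizer (V : Set G)}).exists_minimal
      ⟨O, hO, le_rfl, h.norm⟩
  have hVp : IsPGroup p V := h.isP.to_le hVO
  have key : ∀ K : Subgroup G, K ≤ M → M ≤ normalizer (K : Set G) →
      (∀ m ∈ K, ∃ j : ℕ, m ^ (p ^ j) ∈ centralizer (V : Set G)) →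
      V ≤ centralizer (K : Set G) := by
    intro K hKM hMK hK
    have hne := inf_centralizer_ne_bot hVp hV0 (hKM.trans hMV) hK
    have hN : M ≤ normalizer ((V ⊓ centralizer (K : Set G) : Subgroup G) : Set G) := by
      intro g hg
      have hgC : ∀ g ∈ M, ∀ y ∈ centralizer (K : Set G), g * y * g⁻¹ ∈ centralizer (K : Set G) := by
        intro g hg y hy
        refine mem_centralizer_iff.2 fun k hk => ?_
        have := mem_centralizer_iff.1 hy _ ((mem_normalizer_iff''.1 (hMK hg) k).1 hk)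
        calc k * (g * y * g⁻¹) = g * ((g⁻¹ * k * g) * y) * g⁻¹ := by group
          _ = g * (y * (g⁻¹ * k * g)) * g⁻¹ := by rw [this]
          _ = g * y * g⁻¹ * k := by group
      rw [mem_normalizer_iff]
      intro y
      refine ⟨fun hy => ⟨(mem_normalizer_iff.1 (hMV hg) y).1 hy.1, hgC g hg y hy.2⟩, fun hy =>
        ⟨(mem_normalizer_iff.1 (hMV hg) y).2 hy.1, ?_⟩⟩
      simpa [mul_assoc] using hgC g⁻¹ (inv_mem hg) _ hy.2
    exact (hmin ⟨hne, inf_le_left.trans hVO, hN⟩ inf_le_left).trans inf_le_right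
  have hVc : IsMulCommutative V := by
    refine Subgroup.le_centralizer_iff_isMulCommutative.mp ?_
    refine (key O h.le h.norm fun m hm => ?_).trans (centralizer_le hVO)
    obtain ⟨j, hj⟩ := h.isP ⟨m, hm⟩
    exact ⟨j, by rw [show m ^ p ^ j = 1 from congrArg Subtype.val hj]; exact one_mem _⟩
  refine ⟨V, hV0, hVO, hMV, hVc, fun A hA hVA hAM a ha => ?_⟩
  obtain ⟨K, hKM, hMK, hKj, hKa⟩ := exists_quad_kernel hp2 h (hVO.trans h.le) hMV hVp
  exact le_centralizer_iff.1 (key K hKM hMK hKj) (hKa A hA hVA a ha (hAM ha))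

/-- If `a` is a `p`-element of a normal `K`, a `p`-group over `C`, and centralizes `C` modulo
`O_p`, then `a ∈ O_p`. -/
theorem mem_pCore_of_centralizes {X : Type u} [Group X] [Finite X] (C K : Subgroup X) [C.Normal]
    [K.Normal] (hK : ∀ m ∈ K, ∃ j : ℕ, m ^ (p ^ j) ∈ C) {a : X} (haK : a ∈ K)
    (hap : ∃ j : ℕ, a ^ (p ^ j) = 1)
    (hac : ∀ c ∈ C, a * c * a⁻¹ * c⁻¹ ∈ Cfsg.pCore p X) : a ∈ Cfsg.pCore p X := by
  obtain ⟨q, hq⟩ : ∃ q : X →* X ⧸ Cfsg.pCore p X, q = QuotientGroup.mk' (Cfsg.pCore p X) :=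
    ⟨_, rfl⟩
  have hqs : Function.Surjective q := hq ▸ QuotientGroup.mk'_surjective _
  haveI hCn : (C.map q).Normal := Normal.map inferInstance q hqs
  haveI : (K.map q).Normal := Normal.map inferInstance q hqs
  obtain ⟨J, hJ⟩ : ∃ J, J = K.map q ⊓ centralizer (C.map q : Set (X ⧸ Cfsg.pCore p X)) := ⟨_, rfl⟩
  haveI : J.Normal := hJ ▸ normal_inf_normal _ _
  have haJ : q a ∈ J := by
    rw [hJ]
    refine ⟨⟨a, haK, rfl⟩, mem_centralizer_iff.2 ?_⟩
    rintro _ ⟨c, hc, rfl⟩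
    have h1 : q (a * c * a⁻¹ * c⁻¹) = 1 := by
      rw [hq, QuotientGroup.mk'_apply, QuotientGroup.eq_one_iff]
      exact hac c hc
    rw [map_mul, map_mul, map_mul, map_inv, map_inv, mul_inv_eq_one, mul_inv_eq_iff_eq_mul] at h1
    exact h1.symm
  obtain ⟨f, hf⟩ : ∃ f : ↥J →* (X ⧸ Cfsg.pCore p X) ⧸ C.map q,
      f = (QuotientGroup.mk' (C.map q)).comp J.subtype := ⟨_, rfl⟩
  have hfp : IsPGroup p f.range := by
    rintro ⟨_, ⟨_, hy⟩, rfl⟩
    rw [hJ] at hy
    obtain ⟨⟨m, hm, rfl⟩, -⟩ := hy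
    obtain ⟨j, hj⟩ := hK m hm
    refine ⟨j, Subtype.ext ?_⟩
    rw [SubmonoidClass.coe_pow, hf]
    change (QuotientGroup.mk' (C.map q) (q m)) ^ p ^ j = 1
    rw [← map_pow, ← map_pow, QuotientGroup.mk'_apply, QuotientGroup.eq_one_iff]
    exact mem_map_of_mem q hj
  haveI := hfp.isNilpotent
  haveI : Group.IsNilpotent J := by
    refine Subgroup.isNilpotent_of_ker_le_center f.rangeRestrict fun y hy => mem_center_iff.2 fun z => ?_
    rw [MonoidHom.ker_rangeRestrict, MonoidHom.mem_ker, hf] at hy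
    have hyC : (y : X ⧸ Cfsg.pCore p X) ∈ C.map q := (QuotientGroup.eq_one_iff _).1 hy
    have hzc : (z : X ⧸ Cfsg.pCore p X) ∈ centralizer (C.map q : Set (X ⧸ Cfsg.pCore p X)) :=
      (hJ ▸ z.2 : (z : X ⧸ Cfsg.pCore p X) ∈
        K.map q ⊓ centralizer (C.map q : Set (X ⧸ Cfsg.pCore p X))).2
    exact Subtype.ext (mem_centralizer_iff.1 hzc _ hyC).symm
  have haz : IsPGroup p (zpowers (⟨q a, haJ⟩ : J)) := by
    obtain ⟨j, hj⟩ := hap
    refine IsPGroup.of_card_dvd_pow (n := j) ?_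
    rw [Nat.card_zpowers]
    refine orderOf_dvd_of_pow_eq_one (Subtype.ext ?_)
    rw [SubmonoidClass.coe_pow]
    change (q a) ^ p ^ j = 1
    rw [← map_pow, hj, map_one]
  obtain ⟨P, hP⟩ := haz.exists_le_sylow
  haveI : (P : Subgroup J).Normal :=
    Sylow.normal_of_normalizerCondition Group.normalizerCondition_of_isNilpotent P
  haveI := P.characteristic_of_normal inferInstance
  have : ((P : Subgroup J).map J.subtype).Normal := ConjAct.normal_of_characteristic_of_normal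
  have h2 := Cores.le_pCore (p := p) (P.isPGroup'.map J.subtype)
    (mem_map_of_mem J.subtype (hP (mem_zpowers _)))
  rw [Cores.pCore_quotient_pCore, mem_bot] at h2
  have h3 : q a = 1 := h2
  rwa [hq, QuotientGroup.mk'_apply, QuotientGroup.eq_one_iff] at h3

end Cfsg.Agent.Lib.PrimPair
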