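import Mathlib
import Cfsg.Agent.Lib.Puig.Theorem
import Cfsg.Agent.Lib.PrimPair.Stable

/-!
# Puig subgroups of `O_p(M)` and of a `p`-subgroup of `M` containing it

Owner: helper69.
-/

set_option autoImplicit false

namespace Cfsg.Agent.Lib.PrimPair

open Subgroup
open Cfsg.Agent.Lib.Puig.Basic Cfsg.Agent.Lib.Puig.Inside

universe u

variable {G : Type u} [Group G]

/-- An element normalising `H` fixes each term of the Puig series of `H`. -/
theorem le_normalizer_seqIn [Finite G] {M H : Subgroup G} (h : M ≤ normalizer (H : Set G)) (n : ℕ) :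
    M ≤ normalizer (seqIn H n : Set G) := by
  intro g hg
  have hmap : ∀ X : Subgroup G, g ∈ normalizer (X : Set G) →
      X.map (MulAut.conj g).toMonoidHom = X := fun X hX => by
    refine eq_of_le_of_card_ge ?_ (card_map_of_injective (MulAut.conj g).injective).ge
    rintro _ ⟨y, hy, rfl⟩
    exact (mem_normalizer_iff.mp hX y).mp hy
  have hinj : Function.Injective ((MulAut.conj g).toMonoidHom.comp H.subtype) :=
    (MulAut.conj g).injective.comp H.subtype_injective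
  have hr : ((MulAut.conj g).toMonoidHom.comp H.subtype).range = H := by
    rw [MonoidHom.range_comp, range_subtype, hmap H (h hg)]
  have he : (seqIn H n).map (MulAut.conj g).toMonoidHom = seqIn H n := by
    conv_lhs => rw [← map_subtype_puigSeq, Subgroup.map_map, map_puigSeq _ hinj, hr]
  rw [mem_normalizer_iff]
  intro y
  refine ⟨fun hy => he.le ⟨y, hy, rfl⟩, fun hy => ?_⟩
  obtain ⟨z, hz, hzy⟩ := he.ge hy
  exact (MulAut.conj g).injective hzy ▸ hz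

/-- An element normalising `H` normalises `Z(L(H))`. -/
theorem le_normalizer_centerIn [Finite G] {M H : Subgroup G} (h : M ≤ normalizer (H : Set G)) :
    M ≤ normalizer ((Puig.Theorem.centerIn H) : Set G) := by
  obtain ⟨k, hk⟩ := stable H
  have hU : M ≤ normalizer (upperIn H : Set G) :=
    (hk k le_rfl).2 ▸ le_normalizer_seqIn h (2 * k + 1)
  intro g hg
  have hC : ∀ g ∈ M, ∀ y ∈ centralizer (upperIn H : Set G),
      g * y * g⁻¹ ∈ centralizer (upperIn H : Set G) := by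
    intro g hg y hy
    refine mem_centralizer_iff.2 fun k hk => ?_
    have := mem_centralizer_iff.1 hy _ ((mem_normalizer_iff''.1 (hU hg) k).1 hk)
    calc k * (g * y * g⁻¹) = g * ((g⁻¹ * k * g) * y) * g⁻¹ := by group
      _ = g * (y * (g⁻¹ * k * g)) * g⁻¹ := by rw [this]
      _ = g * y * g⁻¹ * k := by group
  rw [Puig.Theorem.centerIn_eq, mem_normalizer_iff]
  intro y
  refine ⟨fun hy => ⟨(mem_normalizer_iff.1 (hU hg) y).1 hy.1, hC g hg y hy.2⟩, fun hy =>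
    ⟨(mem_normalizer_iff.1 (hU hg) y).2 hy.1, ?_⟩⟩
  simpa [mul_assoc] using hC g⁻¹ (inv_mem hg) _ hy.2

variable [Finite G] {p : ℕ} [hp : Fact p.Prime]

/-- The even Puig terms of `T ⊇ O_p(M)` lie in `O_p(M)`. -/
theorem seqIn_even_le (hp2 : p ≠ 2) {M O T : Subgroup G} (h : Good p M O) (hTM : T ≤ M)
    (hOT : O ≤ T) : ∀ n, seqIn T (2 * n) ≤ O := by
  haveI := h.isP.isNilpotent
  intro n
  induction n using Nat.strong_induction_on with
  | _ n ih =>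
  obtain _ | n := n
  · exact bot_le
  have hcmp := (seqIn_compare hOT n fun j hj => ih j (Nat.lt_succ_of_le hj)).2
  have hCP : O ⊓ centralizer (seqIn O (2 * n + 1) : Set G) ≤ seqIn O (2 * n + 1) := by
    intro z ⟨hzT, hzC⟩
    rw [← map_subtype_puigSeq]
    refine ⟨⟨z, hzT⟩, centralizer_puigStep_le (puigSeq ↥O (2 * n)) ?_, rfl⟩
    refine mem_centralizer_iff.mpr fun w hw => Subtype.ext (mem_centralizer_iff.mp hzC w ?_)
    rw [← map_subtype_puigSeq]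
    exact mem_map_of_mem _ hw
  exact sSup_le fun A ⟨hA, hc, hX⟩ x hx => mem_core_of_quad hp2 h (seqIn_le _ _)
    (le_normalizer_seqIn h.norm _) hCP hc (hcmp.trans hX) hx (hTM (hA hx))

theorem between (hp2 : p ≠ 2) {M O T : Subgroup G} (h : Good p M O) (hTM : T ≤ M) (hOT : O ≤ T) :
    lowerIn T ≤ lowerIn O ∧ upperIn O ≤ upperIn T := by
  obtain ⟨k, hk⟩ := stable T
  exact between_of_lowerIn_le hOT ((hk k le_rfl).1 ▸ seqIn_even_le hp2 h hTM hOT k)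

/-- An abelian subgroup of `T` normal in `M ⊇ T` lies in `L_*(T)`. -/
theorem le_lowerIn {M T X : Subgroup G} (hTM : T ≤ M) (hXT : X ≤ T) (hX : IsMulCommutative X)
    (hMX : M ≤ normalizer (X : Set G)) : X ≤ lowerIn T := by
  rw [← stepIn_upperIn]
  exact le_stepIn hXT hX ((upperIn_le T).trans (hTM.trans hMX))

/-- One inclusion `L(O_p(M₂)) ≤ O_p(M₁)` for a pair. -/
theorem upperIn_le_core (hp2 : p ≠ 2) {M₁ M₂ O₁ O₂ : Subgroup G} (h₁ : Good p M₁ O₁)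
    (h₂ : Good p M₂ O₂) (hO : O₁ ⊔ O₂ ≤ M₁ ⊓ M₂) (hO₂ : O₂ ≠ ⊥)
    (hP : ∀ A : Subgroup G, A ≠ ⊥ → A ≤ M₁ ⊓ M₂ → M₂ ≤ normalizer (A : Set G) →
      M₁ ⊓ normalizer (A : Set G) = M₁ ⊓ M₂) : upperIn O₂ ≤ O₁ := by
  have hDN : ∀ O M : Subgroup G, Good p M O → M₁ ⊓ M₂ ≤ M → M₁ ⊓ M₂ ≤ normalizer (O : Set G) :=
    fun O M h hD => hD.trans h.norm
  obtain ⟨T, hT⟩ : ∃ T, T = O₁ ⊔ O₂ := ⟨_, rfl⟩
  have hTp : IsPGroup p T := hT ▸ h₁.isP.to_sup_of_normal_right' h₂.isP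
    ((le_sup_left.trans (hO.trans inf_le_right)).trans h₂.norm)
  have hTM₁ : T ≤ M₁ := hT ▸ hO.trans inf_le_left
  have hTM₂ : T ≤ M₂ := hT ▸ hO.trans inf_le_right
  have hO₁T : O₁ ≤ T := hT ▸ le_sup_left
  have hO₂T : O₂ ≤ T := hT ▸ le_sup_right
  obtain ⟨hl₁, hu₁⟩ := between hp2 h₁ hTM₁ hO₁T
  obtain ⟨hl₂, -⟩ := between hp2 h₂ hTM₂ hO₂T
  obtain ⟨V, hV0, hVO, hMV, hVc, hVq⟩ := exists_reduced hp2 h₂ hO₂
  obtain ⟨B, hB⟩ : ∃ B, B = Puig.Theorem.centerIn O₁ := ⟨_, rfl⟩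
  have hBU : B ≤ upperIn O₁ := hB ▸ Puig.Theorem.centerIn_eq O₁ ▸ inf_le_left
  have hBc : IsMulCommutative B := by
    rw [hB]
    unfold Puig.Theorem.centerIn
    infer_instance
  have hMB : M₁ ≤ normalizer (B : Set G) := hB ▸ le_normalizer_centerIn h₁.norm
  have hBO : B ≤ O₁ := hBU.trans (upperIn_le _)
  have hVl : V ≤ lowerIn T := le_lowerIn hTM₂ (hVO.trans hO₂T) hVc hMV
  have hBl : B ≤ lowerIn T := le_lowerIn hTM₁ (hBO.trans hO₁T) hBc hMB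
  -- `V ≤ Z(L(O₁))`
  have hUV : upperIn T ≤ centralizer (V : Set G) := by
    rw [← stepIn_lowerIn]
    exact sSup_le fun A ⟨hA, hc, hX⟩ => hVq A hc (hVl.trans hX) (hA.trans hTM₂)
  have hVB : V ≤ B := by
    rw [hB, Puig.Theorem.centerIn_eq]
    exact le_inf ((hVl.trans hl₁).trans (lowerIn_le_upperIn _))
      (le_centralizer_iff.1 (hu₁.trans hUV))
  obtain ⟨C, hC⟩ : ∃ C, C = M₁ ⊓ centralizer (B : Set G) := ⟨_, rfl⟩
  have hCD : C ≤ M₁ ⊓ M₂ := by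
    rw [← hP V hV0 (hVO.trans (le_sup_right.trans hO)) hMV, hC]
    exact inf_le_inf le_rfl ((centralizer_le hVB).trans (centralizer_le_normalizer _))
  obtain ⟨K, hKM, hMK, hKj, hKa⟩ := exists_quad_kernel hp2 h₁ (hBO.trans h₁.le) hMB
    (h₁.isP.to_le hBO)
  have hMC : M₁ ≤ normalizer (C : Set G) := by
    intro g hg
    have hc : ∀ g ∈ M₁, ∀ y ∈ C, g * y * g⁻¹ ∈ C := by
      intro g hg y hy
      rw [hC] at hy ⊢
      refine ⟨M₁.mul_mem (M₁.mul_mem hg hy.1) (M₁.inv_mem hg), mem_centralizer_iff.2 fun k hk => ?_⟩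
      have := mem_centralizer_iff.1 hy.2 _ ((mem_normalizer_iff''.1 (hMB hg) k).1 hk)
      calc k * (g * y * g⁻¹) = g * ((g⁻¹ * k * g) * y) * g⁻¹ := by group
        _ = g * (y * (g⁻¹ * k * g)) * g⁻¹ := by rw [this]
        _ = g * y * g⁻¹ * k := by group
    rw [mem_normalizer_iff]
    intro y
    refine ⟨hc g hg y, fun hy => ?_⟩
    simpa [mul_assoc] using hc g⁻¹ (inv_mem hg) _ hy
  have hCM : C ≤ M₁ := hC ▸ inf_le_left
  haveI hCn := normal_subgroupOf_iff_le_normalizer hCM |>.2 hMC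
  haveI := normal_subgroupOf_iff_le_normalizer hKM |>.2 hMK
  -- `O₂ ∩ C ≤ O_p(M₁)`
  have hI : (O₂ ⊓ C).subgroupOf M₁ ≤ Cfsg.pCore p ↥M₁ := by
    have hle : (O₂ ⊓ C).subgroupOf M₁ ≤ C.subgroupOf M₁ := comap_mono inf_le_right
    refine Cores.IsSubnormal.le_pCore (Subgroup.IsSubnormal.step _ (C.subgroupOf M₁) hle
      hCn.isSubnormal ?_) (h₂.isP.to_le inf_le_left).comap_subtype
    refine normal_subgroupOf_iff_le_normalizer hle |>.2 fun c hc => ?_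
    rw [mem_normalizer_iff]
    intro y
    have hcC : (c : G) ∈ C := hc
    have hcN : (c : G) ∈ normalizer (O₂ : Set G) := hDN O₂ M₂ h₂ inf_le_right (hCD hcC)
    constructor
    · intro hy
      exact ⟨(mem_normalizer_iff.1 hcN _).1 hy.1, C.mul_mem (C.mul_mem hcC hy.2) (C.inv_mem hcC)⟩
    · intro hy
      refine ⟨(mem_normalizer_iff.1 hcN _).2 hy.1, ?_⟩
      have h1 := mul_mem (mul_mem (inv_mem hcC) hy.2) hcC
      simpa [mul_assoc] using h1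
  rw [← stepIn_lowerIn]
  refine sSup_le fun A ⟨hA, hc, hX⟩ a ha => ?_
  have haM : a ∈ M₁ := hTM₁ (hO₂T (hA ha))
  have haK : a ∈ K := hKa A hc ((hBl.trans hl₂).trans hX) a ha haM
  have h0 : (⟨a, haM⟩ : ↥M₁) ∈ Cfsg.pCore p ↥M₁ := by
    refine mem_pCore_of_centralizes (C.subgroupOf M₁) (K.subgroupOf M₁) ?_ haK ?_ ?_
    · intro m hm
      obtain ⟨j, hj⟩ := hKj m hm
      refine ⟨j, ?_⟩
      change ((m ^ p ^ j : ↥M₁) : G) ∈ C
      rw [hC, SubmonoidClass.coe_pow]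
      exact ⟨pow_mem m.2 _, hj⟩
    · obtain ⟨j, hj⟩ := h₂.isP ⟨a, hA ha⟩
      refine ⟨j, Subtype.ext ?_⟩
      rw [SubmonoidClass.coe_pow]
      exact congrArg Subtype.val hj
    · intro c hc'
      refine hI ⟨?_, ?_⟩
      · change a * (c : G) * a⁻¹ * (c : G)⁻¹ ∈ O₂
        rw [show a * (c : G) * a⁻¹ * (c : G)⁻¹ = a * ((c : G) * a⁻¹ * (c : G)⁻¹) by group]
        exact mul_mem (hA ha)
          ((mem_normalizer_iff.1 (hDN O₂ M₂ h₂ inf_le_right (hCD hc')) _).1 (inv_mem (hA ha)))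
      · exact C.mul_mem ((mem_normalizer_iff.1 (hMC haM) _).1 hc') (C.inv_mem hc')
  have hmax := h₁.max ((Cfsg.pCore p ↥M₁).map M₁.subtype) (map_subtype_le _) ?_
    ((Cores.pCore_isPGroup p).map _)
  · exact hmax ⟨_, h0, rfl⟩
  · calc M₁ = (normalizer (Cfsg.pCore p ↥M₁ : Set ↥M₁)).map M₁.subtype := by
          rw [normalizer_eq_top, ← MonoidHom.range_eq_map, range_subtype]
      _ ≤ _ := le_normalizer_map _

/-- `O_p(M₁) ∩ O_p(M₂)` contains a nontrivial subgroup normal in both members of a pair. -/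
theorem exists_common_normal (hp2 : p ≠ 2) {M₁ M₂ O₁ O₂ : Subgroup G} (h₁ : Good p M₁ O₁)
    (h₂ : Good p M₂ O₂) (hO : O₁ ⊔ O₂ ≤ M₁ ⊓ M₂) (hO₁ : O₁ ≠ ⊥) (hO₂ : O₂ ≠ ⊥)
    (hP : ∀ A : Subgroup G, A ≠ ⊥ → A ≤ M₁ ⊓ M₂ →
      (M₁ ≤ normalizer (A : Set G) → M₂ ⊓ normalizer (A : Set G) = M₁ ⊓ M₂) ∧
      (M₂ ≤ normalizer (A : Set G) → M₁ ⊓ normalizer (A : Set G) = M₁ ⊓ M₂)) :
    ∃ L : Subgroup G, L ≠ ⊥ ∧ L ≤ M₁ ⊓ M₂ ∧ M₁ ≤ normalizer (L : Set G) ∧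
      M₂ ≤ normalizer (L : Set G) := by
  have u₁ : upperIn O₂ ≤ O₁ := upperIn_le_core hp2 h₁ h₂ hO hO₂ fun A a b => (hP A a b).2
  have u₂ : upperIn O₁ ≤ O₂ := upperIn_le_core hp2 h₂ h₁ (by rwa [sup_comm, inf_comm M₂]) hO₁
    fun A a b c => by rw [(hP A a (by rwa [inf_comm])).1 c, inf_comm]
  have e₁ : upperIn (O₁ ⊓ O₂) = upperIn O₁ :=
    upperIn_eq_of_upperIn_le inf_le_left (le_inf (upperIn_le _) u₂)
  have e₂ : upperIn (O₁ ⊓ O₂) = upperIn O₂ :=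
    upperIn_eq_of_upperIn_le inf_le_right (le_inf u₁ (upperIn_le _))
  refine ⟨upperIn O₁, ?_, (upperIn_le _).trans (le_sup_left.trans hO), ?_, ?_⟩
  · intro hbot
    haveI := h₁.isP.isNilpotent
    rw [upperIn, Subgroup.map_eq_bot_iff, ker_subtype, le_bot_iff] at hbot
    have h := centralizer_puigStep_le (puigLower ↥O₁)
    rw [puigStep_puigLower, hbot] at h
    obtain ⟨⟨x, hx⟩, hx1⟩ := (nontrivial_iff_exists_ne (1 : ↥O₁)).1
      ((nontrivial_iff_ne_bot O₁).2 hO₁)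
    refine hx1 (mem_bot.1 (h (mem_centralizer_iff.2 fun w hw => ?_)))
    rw [SetLike.mem_coe, mem_bot] at hw
    rw [hw, one_mul, mul_one]
  · obtain ⟨k, hk⟩ := stable O₁
    exact (hk k le_rfl).2 ▸ le_normalizer_seqIn h₁.norm (2 * k + 1)
  · rw [← e₁, e₂]
    obtain ⟨k, hk⟩ := stable O₂
    exact (hk k le_rfl).2 ▸ le_normalizer_seqIn h₂.norm (2 * k + 1)

end Cfsg.Agent.Lib.PrimPair
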