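import Mathlib
import Cfsg.Agent.Lib.PrimPair.Puig

/-!
# A primitive pair of characteristic `p` has a nonabelian Sylow `2`-subgroup

Owner: helper69.
-/

set_option autoImplicit false

namespace Cfsg.Agent.Lib.PrimPair

open Subgroup

universe u

variable {G : Type u} [Group G] [Finite G] {p : ℕ} [hp : Fact p.Prime]

/-- The `2`-core of a constrained group with abelian Sylow `2`-subgroup contains the `2`-elements. -/
theorem le_core_two [Fact (Nat.Prime 2)] (M : Subgroup G)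
    (hc : centralizer (Cfsg.pCore 2 ↥M : Set ↥M) ≤ Cfsg.pCore 2 ↥M) (T : Sylow 2 ↥M)
    (hT : IsMulCommutative T) {Q : Subgroup G} (hQ : IsPGroup 2 Q) (hQM : Q ≤ M) :
    Q ≤ (Cfsg.pCore 2 ↥M).map M.subtype := by
  have hle : (T : Subgroup ↥M) ≤ Cfsg.pCore 2 ↥M :=
    ((le_centralizer_iff_isMulCommutative.2 hT).trans
      (centralizer_le (Cores.pCore_le_sylow T))).trans hc
  have he : Cfsg.pCore 2 ↥M = (T : Subgroup ↥M) := le_antisymm (Cores.pCore_le_sylow T) hle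
  haveI : (T : Subgroup ↥M).Normal := he ▸ inferInstance
  haveI := Sylow.unique_of_normal T inferInstance
  obtain ⟨S, hS⟩ := (hQ.comap_subtype (K := M)).exists_le_sylow
  rw [Subsingleton.elim S T] at hS
  rw [← map_subgroupOf_eq_of_le hQM]
  exact map_mono (hS.trans hle)

/-- Two members of a primitive pair of characteristic `p` with abelian Sylow `2`-subgroups are
equal. -/
theorem eq_of_primitive_pair (M₁ M₂ : Subgroup G)
    (hP : ∀ A : Subgroup G, A ≠ ⊥ → A ≤ M₁ ⊓ M₂ →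
      (M₁ ≤ normalizer (A : Set G) → M₂ ⊓ normalizer (A : Set G) = M₁ ⊓ M₂) ∧
      (M₂ ≤ normalizer (A : Set G) → M₁ ⊓ normalizer (A : Set G) = M₁ ⊓ M₂))
    (hc₁ : centralizer (Cfsg.pCore p ↥M₁ : Set ↥M₁) ≤ Cfsg.pCore p ↥M₁)
    (hc₂ : centralizer (Cfsg.pCore p ↥M₂ : Set ↥M₂) ≤ Cfsg.pCore p ↥M₂)
    (hO : (Cfsg.pCore p ↥M₁).map M₁.subtype ⊔ (Cfsg.pCore p ↥M₂).map M₂.subtype ≤ M₁ ⊓ M₂)
    (T₁ : Sylow 2 ↥M₁) (hT₁ : IsMulCommutative T₁) (T₂ : Sylow 2 ↥M₂)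
    (hT₂ : IsMulCommutative T₂) : M₁ = M₂ := by
  obtain ⟨O₁, hO₁⟩ : ∃ O, O = (Cfsg.pCore p ↥M₁).map M₁.subtype := ⟨_, rfl⟩
  obtain ⟨O₂, hO₂⟩ : ∃ O, O = (Cfsg.pCore p ↥M₂).map M₂.subtype := ⟨_, rfl⟩
  rw [← hO₁, ← hO₂] at hO
  have key : ∀ M : Subgroup G, centralizer (Cfsg.pCore p ↥M : Set ↥M) ≤ Cfsg.pCore p ↥M →
      (Cfsg.pCore p ↥M).map M.subtype = ⊥ → M = ⊥ := by
    intro M hc hbot
    rw [Subgroup.map_eq_bot_iff, ker_subtype, le_bot_iff] at hbot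
    rw [eq_bot_iff]
    intro x hx
    have h1 : (⟨x, hx⟩ : ↥M) ∈ centralizer (Cfsg.pCore p ↥M : Set ↥M) := by
      refine mem_centralizer_iff.2 fun w hw => ?_
      rw [SetLike.mem_coe, hbot, mem_bot] at hw
      rw [hw, one_mul, mul_one]
    have h2 := hc h1
    rw [hbot, mem_bot] at h2
    exact mem_bot.2 (congrArg Subtype.val h2)
  have hn : ∀ M : Subgroup G, M ≤ normalizer ((Cfsg.pCore p ↥M).map M.subtype : Set G) := fun M =>
    le_trans (le_of_eq (by rw [normalizer_eq_top, ← MonoidHom.range_eq_map, range_subtype]))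
      (le_normalizer_map M.subtype)
  by_cases h₁ : O₁ = ⊥
  · have hM₁ := key M₁ hc₁ (hO₁ ▸ h₁)
    have hM₂ := key M₂ hc₂ (hO₂ ▸ le_bot_iff.1
      ((le_sup_right.trans hO).trans (inf_le_left.trans hM₁.le)))
    exact hM₁.trans hM₂.symm
  by_cases h₂ : O₂ = ⊥
  · exfalso
    exact h₁ (le_bot_iff.1
      ((le_sup_left.trans hO).trans (inf_le_right.trans (key M₂ hc₂ (hO₂ ▸ h₂)).le)))
  -- a common normal subgroup suffices
  suffices ∃ L : Subgroup G, L ≠ ⊥ ∧ L ≤ M₁ ⊓ M₂ ∧ M₁ ≤ normalizer (L : Set G) ∧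
      M₂ ≤ normalizer (L : Set G) by
    obtain ⟨L, hL0, hLD, h1, h2⟩ := this
    have e1 := (hP L hL0 hLD).1 h1
    have e2 := (hP L hL0 hLD).2 h2
    rw [inf_eq_left.2 h2] at e1
    rw [inf_eq_left.2 h1] at e2
    exact e2.trans e1.symm
  by_cases hp2 : p = 2
  · subst hp2
    have e : O₁ = O₂ := le_antisymm
      (hO₂ ▸ le_core_two M₂ hc₂ T₂ hT₂ (hO₁ ▸ (Cores.pCore_isPGroup 2).map _)
        ((le_sup_left.trans hO).trans inf_le_right))
      (hO₁ ▸ le_core_two M₁ hc₁ T₁ hT₁ (hO₂ ▸ (Cores.pCore_isPGroup 2).map _)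
        ((le_sup_right.trans hO).trans inf_le_left))
    exact ⟨O₁, h₁, le_sup_left.trans hO, hO₁ ▸ hn M₁, e ▸ hO₂ ▸ hn M₂⟩
  exact exists_common_normal hp2
    (hO₁ ▸ good_of_noSLTwo M₁ (PLocal.noSLTwo_of_abelian_sylow_two hp2 T₁ hT₁) hc₁)
    (hO₂ ▸ good_of_noSLTwo M₂ (PLocal.noSLTwo_of_abelian_sylow_two hp2 T₂ hT₂) hc₂) hO h₁ h₂ hP

end Cfsg.Agent.Lib.PrimPair
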